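import Groth.Agent.BorelLib.RedIsog
import Groth.Agent.BorelLib.RedQuot
import Groth.Agent.BorelLib.RedNormal
import Groth.Agent.BorelLib.RedUnipMax
import Groth.Agent.AntiAffLib.AffineQuot
import Groth.Agent.AntiAffLib.Image

/-!
# Quotient maps on geometric points; stability of the unipotent part of the radical
-/

set_option autoImplicit false
set_option linter.style.haveILetI false
set_option linter.unusedSectionVars false
set_option backward.isDefEq.respectTransparency false
set_option maxHeartbeats 1000000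
set_option synthInstance.maxHeartbeats 400000

universe u

open CategoryTheory CategoryTheory.Limits MonoidalCategory CartesianMonoidalCategory AlgebraicGeometry WithConv
open scoped MonObj commutatorElement
open CoactBr (sp)

noncomputable section

attribute [-instance] CategoryTheory.Hom.commGroup

namespace Groth.Agent.RadQuot

open Groth.Agent.BorelLib

attribute [local instance] BorelLib.pTop BorelLib.pTopTensor

/-- A smooth target of a surjective homomorphism from an affine connected group is affine and connected. -/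
theorem target_facts {k : Type u} [Field k] {G G' : Over (Spec (CommRingCat.of k))} [GrpObj G] [GrpObj G']
    [IsAffine G.left] [Smooth G.hom] [ConnectedSpace G.left] [Smooth G'.hom] (q : G ⟶ G') [IsMonHom q]
    [Surjective q.left] : IsAffine G'.left ∧ ConnectedSpace G'.left := by
  haveI : AlgebraicGeometry.IsReduced G'.left := AlgSpLib.isReduced_of_smooth G'.hom
  haveI : QuasiCompact G.hom := inferInstance
  haveI : Flat q.left := AntiAffLib.flat_of_surjective q
  exact ⟨AntiAffLib.isAffine_of_surjective_hom q,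
    q.left.surjective.connectedSpace q.left.continuous⟩

variable {k : Type u} [Field k] (s : (Spec (CommRingCat.of k) : Scheme.{u}))

variable {G G' : Over (Spec (CommRingCat.of k))} [GrpObj G] [GrpObj G'] [IsAffine G.left] [Smooth G.hom]
  [IsAffine G'.left] [Smooth G'.hom]
  {A A' : Type u} [CommRing A] [HopfAlgebra (AlgebraicClosure ((Spec (CommRingCat.of k)).residueField s)) A] [Algebra.FiniteType (AlgebraicClosure ((Spec (CommRingCat.of k)).residueField s)) A]
  [CommRing A'] [HopfAlgebra (AlgebraicClosure ((Spec (CommRingCat.of k)).residueField s)) A'] [Algebra.FiniteType (AlgebraicClosure ((Spec (CommRingCat.of k)).residueField s)) A']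
  (v : sp (AlgebraicClosure ((Spec (CommRingCat.of k)).residueField s)) A ≅ Red.geomFibre s G) [IsMonHom v.hom] (w : sp (AlgebraicClosure ((Spec (CommRingCat.of k)).residueField s)) A' ≅ Red.geomFibre s G') [IsMonHom w.hom]

include w in
/-- A surjective homomorphism gives a surjection on geometric points, whose kernel is that of the subgroup. -/
theorem exists_geom_map {R : Over (Spec (CommRingCat.of k))} [GrpObj R] (r : R ⟶ G) [IsMonHom r]
    (q : G ⟶ G') [IsMonHom q] [Surjective q.left] (hq : AlgGrp.IsKernel r q) :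
    haveI := DiagRep.isMonHom_bc_map (Red.geomPt s) r
    ∃ f : Pt (AlgebraicClosure ((Spec (CommRingCat.of k)).residueField s)) A →* Pt (AlgebraicClosure ((Spec (CommRingCat.of k)).residueField s)) A', IsMor f ∧ Function.Surjective f ∧
      f.ker = ptsSub v ((Over.pullback (Red.geomPt s)).map r) := by
  let t := Red.geomPt s
  haveI := DiagRep.isMonHom_bc_map t r
  haveI := DiagRep.isMonHom_bc_map t q
  obtain ⟨_, -, -⟩ := exists_geomPt_algebra s
  haveI : QuasiCompact (Red.bc t G').hom := MorphismProperty.pullback_snd (P := @QuasiCompact) _ _ inferInstance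
  haveI : Smooth (Red.bc t G').hom := MorphismProperty.pullback_snd (P := @Smooth) _ _ inferInstance
  haveI : LocallyOfFiniteType (Red.bc t G).hom :=
    MorphismProperty.pullback_snd (P := @LocallyOfFiniteType) _ _ inferInstance
  haveI : Surjective ((Over.pullback t).map q).left :=
    MorphismProperty.baseChange_map (P := @Surjective) t q inferInstance
  obtain ⟨ψ, hψ⟩ := Groth.Agent.DiagRep.exists_pt (A := A') (C := A) (v.hom ≫ (Over.pullback t).map q ≫ w.inv)
  let f : Pt (AlgebraicClosure ((Spec (CommRingCat.of k)).residueField s)) A →* Pt (AlgebraicClosure ((Spec (CommRingCat.of k)).residueField s)) A' :=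
    ((ptEquiv w).symm.toMonoidHom.comp (ptHom ((Over.pullback t).map q))).comp (ptEquiv v).toMonoidHom
  have hfv : ∀ x, ptEquiv w (f x) = ptEquiv v x ≫ (Over.pullback t).map q := fun x => (ptEquiv w).apply_symm_apply _
  have hf : ∀ x, f x = pull ψ x := fun x => (ptEquiv w).injective (by
    rw [hfv]
    show (_ ≫ CoactBr.pt x.ofConv ≫ v.hom) ≫ _ = _ ≫ CoactBr.pt (x.ofConv.comp ψ) ≫ w.hom
    rw [CoactBr.pt_comp, ← hψ]
    simp only [Category.assoc, w.inv_hom_id]
    erw [Category.comp_id])
  refine ⟨f, ⟨ψ, hf⟩, fun y => ?_, ?_⟩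
  · obtain ⟨b, hb⟩ := NA.exists_pt_of_mem_range ((Over.pullback t).map q) (ptEquiv w y)
      ((Scheme.Hom.surjective ((Over.pullback t).map q).left) _)
    exact ⟨(ptEquiv v).symm b, (ptEquiv w).injective (by rw [hfv, (ptEquiv v).apply_symm_apply, hb])⟩
  ext x
  obtain ⟨a, rfl⟩ := (FF.toPt t v).surjective x
  rw [FF.mem_ptsSub_bc, MonoidHom.mem_ker]
  have h2 : f (FF.toPt t v a) = FF.toPt t w (a ≫ q) := by
    apply (ptEquiv w).injective
    rw [hfv, FF.ptEquiv_toPt, FF.ptEquiv_toPt, FF.ptK_comp]
  rw [h2]
  constructor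
  · intro h
    rw [← map_one (FF.toPt t w)] at h
    have h' := (FF.toPt t w).injective h
    exact ⟨hq.lift a (toUnit _) (by rw [h', Hom.one_def]), hq.lift_fst _ _ _⟩
  · rintro ⟨b, rfl⟩
    rw [Category.assoc, show r ≫ q = toUnit R ≫ η[G'] from hq.w, ← Category.assoc,
      toUnit_unique (b ≫ toUnit R) (toUnit _), ← Hom.one_def, map_one]

end Groth.Agent.RadQuot

namespace Groth.Agent.RadQuot

open Groth.Agent.BorelLib

attribute [local instance] BorelLib.pTop BorelLib.pTopTensor

variable {k : Type u} [Field k] [IsAlgClosed k] {A : Type u} [CommRing A] [HopfAlgebra k A] [Algebra.FiniteType k A]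

/-- A unipotent element of a connected solvable group with torsion prime to the characteristic is trivial. -/
theorem eq_one_of_uni_of_pt {K : Subgroup (Pt k A)} (hc : IsClosed (K : Set (Pt k A)))
    (hp : _root_.IsPreconnected (K : Set (Pt k A))) (hs : IsSol K) {x : Pt k A} (hx : x ∈ K) (hu : IsUni x)
    (hpt : IsPT x) : x = 1 := by
  obtain ⟨D, hD⟩ := exists_flag_uni hc hp hs
  obtain ⟨m, hm, hxm⟩ := hpt
  have key : ∀ i, x ∈ D.U (i + 1) := by
    intro i
    induction i with
    | zero => exact (hD x).2 ⟨hx, hu⟩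
    | succ i ih => exact D.tf_U (by omega) hm ih (hxm ▸ (D.U _).one_mem)
  obtain ⟨N, hN⟩ := D.exists_U_bot
  have := D.U_anti (Nat.le_succ N) (key N)
  rw [hN] at this
  exact Subgroup.mem_bot.1 this

/-- The unipotent part of the radical is the largest unipotent connected subgroup of it, and is characteristic. -/
theorem exists_uniPart (hconn : _root_.IsPreconnected (Set.univ : Set (Pt k A))) :
    ∃ U : Subgroup (Pt k A), IsClosed (U : Set (Pt k A)) ∧ _root_.IsPreconnected (U : Set (Pt k A)) ∧
      (∀ g, BorelLib.conjSub g U ≤ U) ∧ IsStable U ∧ U ≤ radSub k A ∧ (∀ u ∈ U, IsUni u) ∧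
      ∀ J : Subgroup (Pt k A), _root_.IsPreconnected (J : Set (Pt k A)) → J ≤ radSub k A → (∀ u ∈ J, IsUni u) →
        J ≤ U := by
  obtain ⟨hc, hp, hs, hn, -⟩ := radSub_facts (k := k) (A := A) hconn
  obtain ⟨D, hD⟩ := exists_flag_uni hc hp hs
  have hmax : ∀ J : Subgroup (Pt k A), _root_.IsPreconnected (J : Set (Pt k A)) → J ≤ radSub k A →
      (∀ u ∈ J, IsUni u) → J ≤ neut (D.U 1) := fun J hJ hJr hJu =>
    le_neut hJ fun x hx => (hD x).2 ⟨hJr hx, hJu x hx⟩
  set U := neut (D.U 1) with hU
  have hUc : IsClosed (U : Set (Pt k A)) := isClosed_neut (D.isClosed_U hc 1)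
  have hUp : _root_.IsPreconnected (U : Set (Pt k A)) := isPreconnected_neut _
  have hUu : ∀ u ∈ U, IsUni u := fun u hu => ((hD u).1 (neut_le _ hu)).2
  have hUr : U ≤ radSub k A := (neut_le _).trans (D.U_le 1)
  refine ⟨U, hUc, hUp, fun g => hmax _ (isPreconnected_conjSub hUp) ((conjSub_mono hUr).trans (hn g)) ?_, ?_,
    hUr, hUu, hmax⟩
  · rintro _ ⟨x, hx, rfl⟩
    exact (hUu x hx).conj g
  intro e he he'
  have hMc := isClosed_map_auto e he' hUc
  have hMp := isPreconnected_map_auto e he hUp
  have hMr : U.map e.toMonoidHom ≤ radSub k A := (Subgroup.map_mono hUr).trans (map_radSub_le hconn e he)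
  have h1 : ∀ y ∈ U.map e.toMonoidHom, IsPT y → y = 1 := by
    rintro _ ⟨x, hx, rfl⟩ hy
    have hx' : IsPT x := by
      have := hy.map e.symm.toMonoidHom
      simpa using this
    rw [eq_one_of_uni_of_pt hc hp hs (hUr hx) (hUu x hx) hx', map_one]
  refine hmax _ hMp hMr (uni_of_noTor hMc hMp fun T hT hTt => le_bot_iff.1 fun y hy => ?_).2
  have hsub : {z | z ∈ T ∧ IsPT z} ⊆ ({1} : Set (Pt k A)) := fun z hz => h1 z (hT hz.1) hz.2
  have hcl : IsClosed ({1} : Set (Pt k A)) := by
    rw [← Subgroup.coe_bot, ← clSub_bot]; exact isClosed_clSub _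
  exact Subgroup.mem_bot.2 (closure_minimal hsub hcl (hTt.dense hy))

variable {A' : Type u} [CommRing A'] [HopfAlgebra k A'] [Algebra.FiniteType k A'] (f : Pt k A →* Pt k A')

/-- The neutral preimage of a normal solvable subgroup lies in the radical when the kernel is solvable. -/
theorem neut_comap_le_radSub (hconn : _root_.IsPreconnected (Set.univ : Set (Pt k A)))
    (hker : IsSol f.ker) {N : Subgroup (Pt k A')} (hn : ∀ g, BorelLib.conjSub g N ≤ N) (hs : IsSol N) :
    neut (N.comap f) ≤ radSub k A := by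
  refine le_radSub hconn (isPreconnected_neut _) (fun g => le_neut (isPreconnected_conjSub (isPreconnected_neut _))
    ((conjSub_mono (neut_le _)).trans ?_)) ?_
  · rintro _ ⟨x, hx, rfl⟩
    exact hn (f g) ⟨f x, hx, by simp⟩
  obtain ⟨n, hn'⟩ := hs
  obtain ⟨m, hm⟩ := hker
  have h1 : der (N.comap f) n ≤ f.ker := by
    intro x hx
    have : f x ∈ der ((N.comap f).map f) n := by rw [der_map]; exact ⟨x, hx, rfl⟩
    have h2 := der_mono (Subgroup.map_comap_le f N) n this
    rw [hn', Subgroup.mem_bot] at h2
    exact h2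
  have hadd : ∀ j, der (N.comap f) (n + j) = der (der (N.comap f) n) j := by
    intro j
    induction j with
    | zero => rfl
    | succ j ih => rw [← Nat.add_assoc, der_succ, ih, der_succ]
  refine IsSol.mono ⟨n + m, le_bot_iff.1 ?_⟩ (neut_le _)
  rw [hadd, ← hm]
  exact der_mono h1 m

/-- A connected subgroup covered by a subgroup killed by a homomorphism is trivial. -/
theorem eq_bot_of_neut_comap_le_ker [_root_.IsReduced A'] (hf : IsMor f) (hsur : Function.Surjective f)
    {N : Subgroup (Pt k A')} (hc : IsClosed (N : Set (Pt k A'))) (hp : _root_.IsPreconnected (N : Set (Pt k A')))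
    (h : neut (N.comap f) ≤ f.ker) : N = ⊥ := by
  obtain ⟨F, -, hF⟩ := exists_neut_cosets (P := N.comap f) (hc.preimage hf.continuous)
  refine eq_bot_of_finite hp (((F.finite_toSet).image f).subset fun y hy => ?_)
  obtain ⟨x, rfl⟩ := hsur y
  obtain ⟨r, hr, hrx⟩ := hF x hy
  refine ⟨r, hr, ?_⟩
  have := h hrx
  rw [MonoidHom.mem_ker, map_mul, map_inv, inv_mul_eq_one] at this
  exact this

/-- The kernel by unipotents: the image of the radical is a torus. -/
theorem radSub_isTor_of_uniPart [_root_.IsReduced A'] (hconn : _root_.IsPreconnected (Set.univ : Set (Pt k A)))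
    (hconn' : _root_.IsPreconnected (Set.univ : Set (Pt k A'))) (hf : IsMor f) (hsur : Function.Surjective f)
    (hker : ∀ u ∈ f.ker, IsUni u) (hkers : IsSol f.ker)
    (hU : ∀ J : Subgroup (Pt k A), IsClosed (J : Set (Pt k A)) → _root_.IsPreconnected (J : Set (Pt k A)) →
      J ≤ radSub k A → (∀ u ∈ J, IsUni u) → J ≤ f.ker) :
    IsTor (radSub k A') := by
  obtain ⟨hc, hp, hs, hn, -⟩ := radSub_facts (k := k) (A := A') hconn'
  refine isTor_of_no_uni hc hp hs fun J hJ hJc hJp hJu => eq_bot_of_neut_comap_le_ker f hf hsur hJc hJp ?_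
  have hMc : IsClosed (neut (J.comap f) : Set (Pt k A)) := isClosed_neut (hJc.preimage hf.continuous)
  have hMr : neut (J.comap f) ≤ radSub k A :=
    (le_neut (isPreconnected_neut _) ((neut_le _).trans (Subgroup.comap_mono hJ))).trans
      (neut_comap_le_radSub f hconn hkers hn hs)
  refine hU _ hMc (isPreconnected_neut _) hMr (uni_of_noTor hMc (isPreconnected_neut _) fun T hT hTt => ?_).2
  refine le_bot_iff.1 fun x hx => Subgroup.mem_bot.2 ((hker x ?_).eq_one hTt hx)
  have h0 : T.map f = ⊥ := eq_bot_of_uni (hTt.map hf) (by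
    rintro _ ⟨y, hy, rfl⟩
    exact hJu _ ((neut_le (J.comap f)) (hT hy)))
  exact Subgroup.mem_bot.1 (h0 ▸ Subgroup.mem_map_of_mem _ hx)

end Groth.Agent.RadQuot

end
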