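import Groth.Agent.RadQuotLib.Geom
import Groth.Agent.BorelLib.Surj
import Groth.Agent.NormSubLib.Quot

/-!
# Images of unipotent radicals on points over an algebraically closed field
-/

set_option autoImplicit false
set_option linter.style.haveILetI false
set_option linter.unusedSectionVars false
set_option backward.isDefEq.respectTransparency false
set_option maxHeartbeats 2000000
set_option synthInstance.maxHeartbeats 400000

universe u

open CategoryTheory CategoryTheory.Limits MonoidalCategory CartesianMonoidalCategory AlgebraicGeometry WithConv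
open scoped MonObj commutatorElement
open CoactBr (sp)

noncomputable section

attribute [-instance] CategoryTheory.Hom.commGroup

namespace Groth.Agent.RadQuot

open Groth.Agent.BorelLib

attribute [local instance] BorelLib.pTop BorelLib.pTopTensor

variable {k : Type u} [Field k] [IsAlgClosed k] {A A' : Type u} [CommRing A] [HopfAlgebra k A]
  [Algebra.FiniteType k A] [CommRing A'] [HopfAlgebra k A'] [Algebra.FiniteType k A']

section scheme

variable {G G' : Over (Spec (CommRingCat.of k))} [GrpObj G] [GrpObj G'] [IsAffine G.left] [Smooth G.hom]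
  [IsAffine G'.left] [Smooth G'.hom] (v : sp k A ≅ G) [IsMonHom v.hom] (w : sp k A' ≅ G') [IsMonHom w.hom]

include w in
/-- A surjective homomorphism on points over an algebraically closed field. -/
theorem exists_pts_map (q : G ⟶ G') [IsMonHom q] [Surjective q.left] :
    ∃ f : Pt k A →* Pt k A', IsMor f ∧ Function.Surjective f ∧ ∀ x, ptEquiv w (f x) = ptEquiv v x ≫ q := by
  haveI : QuasiCompact G'.hom := inferInstance
  obtain ⟨ψ, hψ⟩ := Groth.Agent.DiagRep.exists_pt (A := A') (C := A) (v.hom ≫ q ≫ w.inv)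
  let f : Pt k A →* Pt k A' := ((ptEquiv w).symm.toMonoidHom.comp (ptHom q)).comp (ptEquiv v).toMonoidHom
  have hfv : ∀ x, ptEquiv w (f x) = ptEquiv v x ≫ q := fun x => (ptEquiv w).apply_symm_apply _
  have hf : ∀ x, f x = pull ψ x := fun x => (ptEquiv w).injective (by
    rw [hfv]
    show (_ ≫ CoactBr.pt x.ofConv ≫ v.hom) ≫ _ = _ ≫ CoactBr.pt (x.ofConv.comp ψ) ≫ w.hom
    rw [CoactBr.pt_comp, ← hψ]
    simp only [Category.assoc, w.inv_hom_id]
    erw [Category.comp_id])
  refine ⟨f, ⟨ψ, hf⟩, fun y => ?_, hfv⟩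
  obtain ⟨b, hb⟩ := NA.exists_pt_of_mem_range q (ptEquiv w y) (q.left.surjective _)
  exact ⟨(ptEquiv v).symm b, (ptEquiv w).injective (by rw [hfv, (ptEquiv v).apply_symm_apply, hb])⟩

end scheme

variable {A'' : Type u} [CommRing A''] [HopfAlgebra k A''] [Algebra.FiniteType k A''] [_root_.IsReduced A']
  [_root_.IsReduced A'']

/-- Connected normal unipotent subgroups of an image come from the unipotent radical. -/
theorem le_map_of_uni (hconn : _root_.IsPreconnected (Set.univ : Set (Pt k A)))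
    {f : Pt k A →* Pt k A'} (hf : IsMor f) (hfs : Function.Surjective f)
    {g : Pt k A →* Pt k A''} (hg : IsMor g) (hgs : Function.Surjective g)
    {U : Subgroup (Pt k A)} (hUc : IsClosed (U : Set (Pt k A))) (hUp : _root_.IsPreconnected (U : Set (Pt k A)))
    (hUu : ∀ u ∈ U, IsUni u) (hker : g.ker = U)
    (hUmax : ∀ J : Subgroup (Pt k A), _root_.IsPreconnected (J : Set (Pt k A)) → J ≤ radSub k A → (∀ u ∈ J, IsUni u) →
      J ≤ U)
    {N : Subgroup (Pt k A')} (hNc : IsClosed (N : Set (Pt k A'))) (hNp : _root_.IsPreconnected (N : Set (Pt k A')))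
    (hNn : ∀ a, BorelLib.conjSub a N ≤ N) (hNu : ∀ u ∈ N, IsUni u) (hUN : U.map f ≤ N) :
    N ≤ U.map f := by
  have hconn'' : _root_.IsPreconnected (Set.univ : Set (Pt k A'')) := by
    rw [← hgs.range_eq, ← Set.image_univ]
    exact hconn.image _ hg.continuous.continuousOn
  have hred : IsRedPts k A'' := isRedPts_of_radSub hconn'' (radSub_isTor_of_uniPart g hconn hconn'' hg hgs
    (hker.symm ▸ hUu) (hker.symm ▸ isSol_of_uni hUc hUp hUu)
    fun J _ hJp hJr hJu => hker.symm ▸ hUmax J hJp hJr hJu)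
  set C := U.map f with hC
  have hCc : IsClosed (C : Set (Pt k A')) := (BorelLib.isClosed_map hf hUc hUp).1
  set M := neut (N.comap f) with hM
  have hMc : IsClosed (M : Set (Pt k A)) := isClosed_neut (hNc.preimage hf.continuous)
  have hMp : _root_.IsPreconnected (M : Set (Pt k A)) := isPreconnected_neut _
  have hMn : ∀ a, BorelLib.conjSub a M ≤ M := fun a => le_neut (isPreconnected_conjSub hMp)
    ((conjSub_mono (neut_le _)).trans (by
      rintro _ ⟨x, hx, rfl⟩
      exact hNn (f a) ⟨f x, hx, by simp⟩))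
  have hUM : U ≤ M := le_neut hUp fun x hx => hUN ⟨x, hx, rfl⟩
  set W := neut (M ⊓ C.comap f) with hW
  have hWc : IsClosed (W : Set (Pt k A)) :=
    isClosed_neut (hMc.inter (hCc.preimage hf.continuous))
  have hWp : _root_.IsPreconnected (W : Set (Pt k A)) := isPreconnected_neut _
  have hUW : U ≤ W := le_neut hUp fun x hx => ⟨hUM hx, ⟨x, hx, rfl⟩⟩
  obtain ⟨hMbc, hMbp⟩ := BorelLib.isClosed_map hg hMc hMp
  obtain ⟨hWbc, hWbp⟩ := BorelLib.isClosed_map hg hWc hWp
  have hMbn : ∀ a, BorelLib.conjSub a (M.map g) ≤ M.map g := fun a => by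
    obtain ⟨b, rfl⟩ := hgs a
    rw [← map_conjSub]
    exact Subgroup.map_mono (hMn b)
  -- tori of the image lie in the image of `W`
  have htor : ∀ T : Subgroup (Pt k A''), T ≤ M.map g → IsTor T → T ≤ W.map g := by
    intro T hTM hT
    set P := neut (T.comap g)
    have hPc : IsClosed (P : Set (Pt k A)) := isClosed_neut (hT.closed.preimage hg.continuous)
    have hPp : _root_.IsPreconnected (P : Set (Pt k A)) := isPreconnected_neut _
    have hPM : P ≤ M := fun x hx => by
      obtain ⟨m, hm, hmx⟩ := hTM (neut_le (T.comap g) hx)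
      have : m⁻¹ * x ∈ g.ker := by rw [MonoidHom.mem_ker, map_mul, map_inv, hmx, inv_mul_cancel]
      rw [hker] at this
      simpa using M.mul_mem hm (hUM this)
    have hPs : IsSol P := by
      obtain ⟨n, hn⟩ := isSol_of_uni hUc hUp hUu
      refine ⟨n + 1, le_bot_iff.1 ?_⟩
      rw [der_succ', ← hn]
      refine der_mono ?_ n
      refine Subgroup.commutator_le.2 fun a ha b hb => ?_
      rw [← hker, MonoidHom.mem_ker, map_commutatorElement, commutatorElement_eq_one_iff_mul_comm]
      exact hT.comm _ (neut_le (T.comap g) ha) _ (neut_le (T.comap g) hb)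
    obtain ⟨D, hD⟩ := exists_flag_uni hPc hPp hPs
    obtain ⟨S, hSP, hS, -, hdec, -⟩ := D.exists_torus_decomp hPc hPp
    have hfS : S.map f = ⊥ := eq_bot_of_uni (hS.map hf) (by
      rintro _ ⟨y, hy, rfl⟩
      exact hNu _ (neut_le (N.comap f) (hPM (hSP hy))))
    have hPW : P ≤ W := le_neut hPp fun p hp => ⟨hPM hp, by
      obtain ⟨s, hs, hsU⟩ := hdec p hp
      have hu1 : g (s⁻¹ * p) = 1 := (((hD _).1 hsU).2.map g hg).eq_one hT
        (neut_le (T.comap g) (P.mul_mem (P.inv_mem (hSP hs)) hp))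
      have hu2 : s⁻¹ * p ∈ U := by rw [← hker]; exact hu1
      have hs1 : f s = 1 := Subgroup.mem_bot.1 (hfS ▸ Subgroup.mem_map_of_mem _ hs)
      refine ⟨s⁻¹ * p, hu2, ?_⟩
      rw [map_mul, map_inv, hs1, inv_one, one_mul]⟩
    obtain ⟨F, -, hF⟩ := exists_neut_cosets (P := T.comap g) (hT.closed.preimage hg.continuous)
    classical
    refine fun x hx => (subset_of_cosets hWbc hT.conn T.one_mem (R := F.image g) ?_ hx)
    intro y hy
    obtain ⟨z, rfl⟩ := hgs y
    obtain ⟨r, hr, hrz⟩ := hF z hy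
    exact ⟨g r, Finset.mem_image_of_mem _ hr, ⟨r⁻¹ * z, hPW hrz, by simp⟩⟩
  -- hence the image of `W` is everything
  have hMr := hred.normal_isRedSub hconn'' hMbc hMbp hMbn
  obtain ⟨B, _, _, j, hB, hB', hj, hjind, hjinj, hjr, -⟩ := exists_frame hMbc
  haveI := hB; haveI := hB'
  have hjimg : j '' (Set.univ : Set (Pt k B)) = (M.map g : Set (Pt k A'')) := by
    rw [Set.image_univ, ← MonoidHom.coe_range, hjr]
  have hBconn : _root_.IsPreconnected (Set.univ : Set (Pt k B)) := hjind.isPreconnected_image.1 (hjimg.symm ▸ hMbp)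
  have hBred : IsRedPts k B := fun J hJc hJp hJn hJu => by
    have h := hMr (J.map j) (by rintro _ ⟨x, -, rfl⟩; exact hjr ▸ ⟨x, rfl⟩) (BorelLib.isClosed_map hj hJc hJp).1
      (BorelLib.isClosed_map hj hJc hJp).2 (fun a ha => by
        rw [← hjr] at ha
        obtain ⟨y, rfl⟩ := ha
        rw [← map_conjSub]
        exact Subgroup.map_mono (hJn y))
      (by rintro _ ⟨x, hx, rfl⟩; exact (hJu x hx).map j hj)
    exact (Subgroup.map_eq_bot_iff_of_injective _ hjinj).1 h
  have hsub : {x : Pt k B | ∃ T, IsMaxTor ⊤ T ∧ x ∈ T} ⊆ j ⁻¹' (W.map g : Set (Pt k A'')) := by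
    rintro x ⟨T, hT, hx⟩
    refine htor (T.map j) ?_ (hT.tor.map hj) ⟨x, hx, rfl⟩
    rw [← hjr]
    exact Subgroup.map_le_range j T
  have hall : M.map g ≤ W.map g := fun y hy => by
    rw [← hjr] at hy
    obtain ⟨x, rfl⟩ := hy
    exact closure_minimal hsub (hWbc.preimage hj.continuous) (by rw [hBred.dense_maxTor hBconn]; trivial)
  have hMW : M ≤ W := fun m hm => by
    obtain ⟨w, hw, hwm⟩ := hall ⟨m, hm, rfl⟩
    have : w⁻¹ * m ∈ g.ker := by rw [MonoidHom.mem_ker, map_mul, map_inv, hwm, inv_mul_cancel]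
    rw [hker] at this
    simpa using W.mul_mem hw (hUW this)
  obtain ⟨F, -, hF⟩ := exists_neut_cosets (P := N.comap f) (hNc.preimage hf.continuous)
  classical
  refine fun y hy => subset_of_cosets hCc hNp N.one_mem (R := F.image f) ?_ hy
  intro y hy
  obtain ⟨x, rfl⟩ := hfs y
  obtain ⟨r, hr, hrx⟩ := hF x hy
  refine ⟨f r, Finset.mem_image_of_mem _ hr, ?_⟩
  rw [← map_inv, ← map_mul]
  exact (neut_le (M ⊓ C.comap f) (hMW hrx)).2

end Groth.Agent.RadQuot

end
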